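import Cfsg.Agent.H671.H5Facts
import Cfsg.Agent.H669.PermFix
import Cfsg.Agent.Characters.Linear
import Cfsg.Agent.S0860
import Cfsg.Agent.S0886
import Cfsg.Prelude.Def_KGroupFacts
import Cfsg.Agent.FastGrp
import Cfsg.Agent.Prune
set_option linter.all false
prune_inst 0x7f00000000000000000000000000000000000000000000000000000000000000000000000000000000000000000000000000000000000000000000000000000000000000000000000000000000000000003fffffffffffffffffffffffffffbeffbdffffffff
open scoped Cfsg.Agent.FastGrp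

/-!
# Extension of characters to `Aut S` when `Out S` is cyclic (helper235, task 380)

* `extAut_of_inv` : `Out S` cyclic, `a` generates `Aut S` modulo `Inn S`, `θ` is `a`-invariant: `θ` extends to `Aut S`;
* `exists_inv_irr` : an automorphism which fixes the class of some `x ≠ 1` fixes an irreducible character `≠ 1`;
* `ext_of_dvd` : `|Out S| = q ^ k`, `Out S` cyclic, `q ∣ |S|`;
* `ext_of_le_two` : `|Out S| ≤ 2`.
-/

set_option autoImplicit false

universe u

namespace Cfsg.Agent.H235.ExtOut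

open Cfsg Cfsg.Agent.Characters.Core Cfsg.Agent.H669.PermFix Cfsg.Agent.H671.H5
open scoped commutatorElement

variable {S : Type u} [Group S] [Finite S]

/-- An automorphism fixing a nontrivial class fixes an irreducible character other than `1`. -/
theorem exists_inv_irr (a : MulAut S) {x : S} (hx : x ≠ 1) (hc : IsConj (a x) x) :
    ∃ θ : IrrCharacter S, (θ : S → ℂ) ≠ 1 ∧ ∀ s, (θ : S → ℂ) (a s) = (θ : S → ℂ) s := by
  classical
  let ci : MulAction (MulAut S) (ConjClasses S) := clsAct (MonoidHom.id (MulAut S))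
  let ii : MulAction (MulAut S) (IrrCharacter S) := irrAct (MonoidHom.id (MulAut S))
  have h0 := S0860.result (G := S) (A := MulAut S) (fun b χ g g' h => by
    have h1 : ConjClasses.mk g' = ConjClasses.mk (b g) := h
    rw [ConjClasses.mk_eq_mk_iff_isConj] at h1
    have h2 : ((b • χ : IrrCharacter S) : S → ℂ) g' = ((b • χ : IrrCharacter S) : S → ℂ) (b g) :=
      classFunction_apply_eq (isIrr_isClassFunction (b • χ : IrrCharacter S).2) h1
    rw [h2]
    show (χ : S → ℂ) ((b⁻¹ : MulAut S) (b g)) = _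
    rw [MulAut.inv_apply_self]) a
  have hfin : Finite (ConjClasses S) := inferInstance
  have h1 : 1 < Nat.card {C : ConjClasses S // a • C = C} := by
    rw [Finite.one_lt_card_iff_nontrivial]
    refine ⟨⟨⟨ConjClasses.mk 1, ?_⟩, ⟨ConjClasses.mk x, ?_⟩, ?_⟩⟩
    · show ConjClasses.mk (a 1) = ConjClasses.mk 1
      rw [map_one]
    · show ConjClasses.mk (a x) = ConjClasses.mk x
      rw [ConjClasses.mk_eq_mk_iff_isConj]
      exact hc
    · intro h
      have h2 : ConjClasses.mk (1 : S) = ConjClasses.mk x := congrArg Subtype.val h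
      rw [ConjClasses.mk_eq_mk_iff_isConj, isConj_comm, isConj_one_left] at h2
      exact hx h2
  rw [← h0] at h1
  have hfin' : Finite {χ : IrrCharacter S // a • χ = χ} := Nat.finite_of_card_ne_zero (by omega)
  rw [Finite.one_lt_card_iff_nontrivial] at h1
  have h3 : ∃ χ : {χ : IrrCharacter S // a • χ = χ}, ((χ : IrrCharacter S) : S → ℂ) ≠ 1 := by
    by_contra hn
    push Not at hn
    obtain ⟨χ, ψ, hne⟩ := h1
    exact hne (Subtype.ext (Subtype.ext ((hn χ).trans (hn ψ).symm)))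
  obtain ⟨⟨θ, hθ⟩, hθ1⟩ := h3
  refine ⟨θ, hθ1, fun s => ?_⟩
  have h4 := congrFun (congrArg Subtype.val hθ) (a s)
  have h5 : (θ : S → ℂ) ((a⁻¹ : MulAut S) (a s)) = (θ : S → ℂ) (a s) := h4
  rw [MulAut.inv_apply_self] at h5
  exact h5.symm


theorem commutator_eq_top [hS : IsSimpleGroup S] (hna : ¬ IsMulCommutative S) : commutator S = ⊤ := by
  rcases hS.eq_bot_or_eq_top_of_normal (commutator S) inferInstance with h | h
  · exfalso
    apply hna
    refine ⟨⟨fun x y => ?_⟩⟩
    have h1 : ⁅x, y⁆ ∈ commutator S := Subgroup.commutator_mem_commutator (Subgroup.mem_top _) (Subgroup.mem_top _)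
    rw [h, Subgroup.mem_bot, commutatorElement_eq_one_iff_mul_comm] at h1
    exact h1
  · exact h

theorem degree_ne_one [IsSimpleGroup S] (hna : ¬ IsMulCommutative S) (θ : IrrCharacter S)
    (h : (θ : S → ℂ) ≠ 1) : charDegree (θ : S → ℂ) ≠ 1 := by
  intro h1
  have h2 : (θ : S → ℂ) 1 = 1 := by
    rw [H669.Basic.charDegree_eq θ.2, h1, Nat.cast_one]
  obtain ⟨f, hf⟩ := Characters.Linear.exists_hom_of_isIrrCharacter θ.2 h2
  have h3 : f.ker = ⊤ := by
    rw [eq_top_iff, ← commutator_eq_top hna]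
    exact Abelianization.commutator_subset_ker f
  apply h
  rw [hf]
  funext g
  have h4 : g ∈ f.ker := by rw [h3]; exact Subgroup.mem_top g
  rw [MonoidHom.mem_ker] at h4
  simp [h4]

theorem conj_injective [hS : IsSimpleGroup S] (hna : ¬ IsMulCommutative S) :
    Function.Injective (MulAut.conj : S →* MulAut S) := by
  rw [← MonoidHom.ker_eq_bot_iff]
  rcases hS.eq_bot_or_eq_top_of_normal (MulAut.conj : S →* MulAut S).ker inferInstance with h | h
  · exact h
  · exfalso
    apply hna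
    refine ⟨⟨fun x y => ?_⟩⟩
    have h1 : x ∈ (MulAut.conj : S →* MulAut S).ker := by rw [h]; exact Subgroup.mem_top _
    rw [MonoidHom.mem_ker] at h1
    have h2 := DFunLike.congr_fun h1 y
    simp only [MulAut.conj_apply, MulAut.one_apply] at h2
    exact mul_inv_eq_iff_eq_mul.1 h2

/-- **Extension to `Aut S`.** -/
theorem extAut_of_inv [IsSimpleGroup S] (hna : ¬ IsMulCommutative S) (hcyc : IsCyclic (Out S)) (a : MulAut S)
    (ha : ∀ b : MulAut S, ∃ (k : ℤ) (s : S), b = MulAut.conj s * a ^ k) (θ : IrrCharacter S)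
    (hθ : ∀ s, (θ : S → ℂ) (a s) = (θ : S → ℂ) s) : ExtAut θ := by
  have hfin : Finite (MulAut S) := inferInstance
  -- invariance under all automorphisms
  have hinv : ∀ (b : MulAut S) (s : S), (θ : S → ℂ) (b s) = (θ : S → ℂ) s := by
    let I : Subgroup (MulAut S) :=
      { carrier := {c | ∀ t, (θ : S → ℂ) (c t) = (θ : S → ℂ) t}
        one_mem' := fun t => rfl
        mul_mem' := fun {x y} hx hy t => by rw [MulAut.mul_apply, hx, hy]
        inv_mem' := fun {x} hx t => by rw [← hx, MulAut.apply_inv_self] }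
    intro b s
    obtain ⟨k, t, rfl⟩ := ha b
    have h1 : a ^ k ∈ I := I.zpow_mem hθ k
    have h2 : MulAut.conj t ∈ I := fun r => isIrr_isClassFunction θ.2 r t
    exact (I.mul_mem h2 h1) s
  let e : S ≃* Inn S := MonoidHom.ofInjective (conj_injective hna)
  have he : ∀ s : S, ((e s : Inn S) : MulAut S) = MulAut.conj s := fun s => rfl
  obtain ⟨χ, hχ, hres⟩ := S0886.result (G := MulAut S) (Inn S) hcyc ((θ : S → ℂ) ∘ e.symm)
    (isIrr_comp (e.symm : Inn S →* S) e.symm.surjective θ.2) (by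
      intro g n
      obtain ⟨s, rfl⟩ := e.surjective n
      have h1 : (⟨g * (e s : Inn S) * g⁻¹, (innNormal S).conj_mem _ (e s).2 g⟩ : Inn S) = e (g s) := by
        apply Subtype.ext
        show g * MulAut.conj s * g⁻¹ = MulAut.conj (g s)
        ext x
        simp [MulAut.conj_apply]
      rw [h1]
      show (θ : S → ℂ) (e.symm (e (g s))) = (θ : S → ℂ) (e.symm (e s))
      rw [e.symm_apply_apply, e.symm_apply_apply]
      exact hinv g s)
  refine ⟨⟨χ, hχ⟩, fun s => ?_⟩
  have h1 := hres (e s)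
  rw [he] at h1
  show χ (MulAut.conj s) = _
  rw [h1]
  show (θ : S → ℂ) (e.symm (e s)) = _
  rw [e.symm_apply_apply]

/-- A `q`-element of `Aut S` which generates `Out S`. -/
theorem exists_gen {q k : ℕ} (hq : q.Prime) (hcyc : IsCyclic (Out S)) (hcard : Nat.card (Out S) = q ^ k) :
    ∃ a : MulAut S, (∃ m, orderOf a = q ^ m) ∧ ∀ b : MulAut S, ∃ (k : ℤ) (s : S), b = MulAut.conj s * a ^ k := by
  have hfin : Finite (MulAut S) := inferInstance
  obtain ⟨g, hg⟩ := hcyc.exists_generator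
  obtain ⟨b, rfl⟩ := QuotientGroup.mk'_surjective (Inn S) g
  obtain ⟨m, r, hr, hm⟩ := Nat.exists_eq_pow_mul_and_not_dvd (orderOf_pos b).ne' q hq.ne_one
  have hr0 : r ≠ 0 := by rintro rfl; exact hr (dvd_zero _)
  have hcop : Nat.Coprime r (Nat.card (Out S)) := by
    rw [hcard]
    exact Nat.Coprime.pow_right _ ((Nat.Prime.coprime_iff_not_dvd hq).2 hr).symm
  refine ⟨b ^ r, ⟨m, ?_⟩, fun c => ?_⟩
  · rw [orderOf_pow_of_dvd hr0 ⟨q ^ m, by rw [hm, mul_comm]⟩, hm, Nat.mul_div_cancel _ (Nat.pos_of_ne_zero hr0)]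
  · -- `c` is a power of `b ^ r` modulo `Inn`
    have h1 : (QuotientGroup.mk' (Inn S) c) ∈ Subgroup.zpowers ((QuotientGroup.mk' (Inn S) b) ^ r) := by
      have h2 : Subgroup.zpowers ((QuotientGroup.mk' (Inn S) b) ^ r) = ⊤ := by
        have h3 : Subgroup.zpowers (QuotientGroup.mk' (Inn S) b) = ⊤ := by
          rw [eq_top_iff]
          intro x _
          exact hg x
        have h4 : orderOf (QuotientGroup.mk' (Inn S) b) = Nat.card (Out S) := by
          rw [← Nat.card_zpowers, h3, Subgroup.card_top]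
        apply Subgroup.eq_top_of_card_eq
        have h5 : (orderOf (QuotientGroup.mk' (Inn S) b)).Coprime r := by rw [h4]; exact hcop.symm
        rw [Nat.card_zpowers, h5.orderOf_pow, h4]
      rw [h2]; exact Subgroup.mem_top _
    obtain ⟨j, hj⟩ := Subgroup.mem_zpowers_iff.1 h1
    have h5 : QuotientGroup.mk' (Inn S) ((b ^ r) ^ j) = QuotientGroup.mk' (Inn S) c := by
      rw [map_zpow, map_pow, hj]
    have h6 : c * ((b ^ r) ^ j)⁻¹ ∈ Inn S := by
      have h7 : QuotientGroup.mk' (Inn S) (c * ((b ^ r) ^ j)⁻¹) = 1 := by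
        rw [map_mul, map_inv, h5, mul_inv_cancel]
      exact (QuotientGroup.eq_one_iff _).1 h7
    obtain ⟨s, hs⟩ := h6
    refine ⟨j, s, ?_⟩
    rw [hs]; group

/-- A `q`-element of `Aut S` fixes a nontrivial element if `q ∣ |S|`. -/
theorem exists_fixed {q : ℕ} (hq : q.Prime) (hd : q ∣ Nat.card S) (a : MulAut S) {m : ℕ} (ha : orderOf a = q ^ m) :
    ∃ x : S, x ≠ 1 ∧ a x = x := by
  have : Fact q.Prime := ⟨hq⟩
  have hp : IsPGroup q (Subgroup.zpowers a) := IsPGroup.of_card (n := m) (by rw [Nat.card_zpowers, ha])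
  have h1 := hp.card_modEq_card_fixedPoints S
  have h2 : q ∣ Nat.card (MulAction.fixedPoints (Subgroup.zpowers a) S) :=
    (Nat.modEq_zero_iff_dvd.1 (h1.symm.trans (Nat.modEq_zero_iff_dvd.2 hd)))
  have h3 : (1 : S) ∈ MulAction.fixedPoints (Subgroup.zpowers a) S := fun g => map_one (g : MulAut S)
  have h4 : 1 < Nat.card (MulAction.fixedPoints (Subgroup.zpowers a) S) := by
    have h5 : 0 < Nat.card (MulAction.fixedPoints (Subgroup.zpowers a) S) := by
      have : Nonempty (MulAction.fixedPoints (Subgroup.zpowers a) S) := ⟨⟨1, h3⟩⟩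
      exact Nat.card_pos
    exact lt_of_lt_of_le hq.one_lt (Nat.le_of_dvd h5 h2)
  rw [Finite.one_lt_card_iff_nontrivial] at h4
  obtain ⟨x, hx⟩ := exists_ne (⟨1, h3⟩ : MulAction.fixedPoints (Subgroup.zpowers a) S)
  refine ⟨x, fun h => hx (Subtype.ext h), ?_⟩
  exact x.2 ⟨a, Subgroup.mem_zpowers a⟩

/-- every invariant character extends -/
theorem extAut_of_invariant [IsSimpleGroup S] (hna : ¬ IsMulCommutative S) (hcyc : IsCyclic (Out S))
    (θ : IrrCharacter S) (hθ : ∀ (b : MulAut S) (s : S), (θ : S → ℂ) (b s) = (θ : S → ℂ) s) : ExtAut θ := by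
  have hfin : Finite (MulAut S) := inferInstance
  obtain ⟨g, hg⟩ := hcyc.exists_generator
  obtain ⟨b, rfl⟩ := QuotientGroup.mk'_surjective (Inn S) g
  refine extAut_of_inv hna hcyc b (fun c => ?_) θ (hθ b)
  obtain ⟨j, hj⟩ := Subgroup.mem_zpowers_iff.1 (hg (QuotientGroup.mk' (Inn S) c))
  have h5 : QuotientGroup.mk' (Inn S) (b ^ j) = QuotientGroup.mk' (Inn S) c := by rw [map_zpow, hj]
  have h6 : c * (b ^ j)⁻¹ ∈ Inn S := by
    have h7 : QuotientGroup.mk' (Inn S) (c * (b ^ j)⁻¹) = 1 := by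
      rw [map_mul, map_inv, h5, mul_inv_cancel]
    exact (QuotientGroup.eq_one_iff _).1 h7
  obtain ⟨s, hs⟩ := h6
  refine ⟨j, s, ?_⟩
  rw [hs]; group

/-- `Out S` cyclic of `q`-power order, and the `q`-elements of `Aut S` fix nontrivial elements -/
theorem ext_of_fixed [IsSimpleGroup S] (hna : ¬ IsMulCommutative S) {q k : ℕ} (hq : q.Prime)
    (hcyc : IsCyclic (Out S)) (hcard : Nat.card (Out S) = q ^ k)
    (hfix : ∀ (a : MulAut S) (m : ℕ), orderOf a = q ^ m → ∃ x : S, x ≠ 1 ∧ a x = x) :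
    ∃ θ : IrrCharacter S, charDegree (θ : S → ℂ) ≠ 1 ∧ ExtAut θ := by
  obtain ⟨a, ⟨m, hm⟩, ha⟩ := exists_gen hq hcyc hcard
  obtain ⟨x, hx, hax⟩ := hfix a m hm
  obtain ⟨θ, hθ1, hθ⟩ := exists_inv_irr a hx (by rw [hax])
  exact ⟨θ, degree_ne_one hna θ hθ1, extAut_of_inv hna hcyc a ha θ hθ⟩

theorem ext_of_dvd [IsSimpleGroup S] (hna : ¬ IsMulCommutative S) {q k : ℕ} (hq : q.Prime)
    (hcyc : IsCyclic (Out S)) (hcard : Nat.card (Out S) = q ^ k) (hd : q ∣ Nat.card S) :
    ∃ θ : IrrCharacter S, charDegree (θ : S → ℂ) ≠ 1 ∧ ExtAut θ :=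
  ext_of_fixed hna hq hcyc hcard fun a _ hm => exists_fixed hq hd a hm

/-- `|Out S| ≤ 2` -/
theorem ext_of_le_two [IsSimpleGroup S] (hna : ¬ IsMulCommutative S) (h2 : Nat.card (Out S) ≤ 2)
    (hd : 2 ∣ Nat.card S) : ∃ θ : IrrCharacter S, charDegree (θ : S → ℂ) ≠ 1 ∧ ExtAut θ := by
  have hpos : 0 < Nat.card (Out S) := by
    have hfin : Finite (MulAut S) := inferInstance
    exact Nat.card_pos
  have h3 : Nat.card (Out S) = 1 ∨ Nat.card (Out S) = 2 := by omega
  rcases h3 with h3 | h3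
  · exact ext_of_dvd hna (q := 2) (k := 0) Nat.prime_two
      (@isCyclic_of_subsingleton _ _ (Nat.card_eq_one_iff_unique.1 h3).1) (by rw [h3]; rfl) hd
  · exact ext_of_dvd hna (q := 2) (k := 1) Nat.prime_two (isCyclic_of_prime_card h3) (by rw [h3]; rfl) hd

end Cfsg.Agent.H235.ExtOut
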