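import Mathlib
import Cfsg.Prelude.Def_CaseTheorems
import Cfsg.Agent.S3116
import Cfsg.Agent.OddHalf.D3.BTwo.Dih
import Cfsg.Agent.Lib.HallHigman
import Cfsg.Agent.Lib.Cores
import Cfsg.Agent.SmallSimple.OrderEight
import Cfsg.Agent.SylowG2Aux.SL23Card
import Cfsg.Agent.PermutationGroups.AutQuaternion
import Cfsg.Agent.TwoFusion.CyclicAut
set_option linter.all false

/-!
# Solvable groups with dihedral or semidihedral Sylow 2-subgroup `T` and `Z(T)` normal (helper235)
-/

set_option autoImplicit false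

namespace Cfsg.Agent.H235.SdSolv

open Subgroup

variable {G : Type*} [Group G] [Finite G]

/-- an element of odd order normalizing a 2-group whose automorphism group is a 2-group centralizes it -/
theorem cent_of_aut {u : G} (hu : Odd (orderOf u)) {A : Subgroup G} (hA : IsPGroup 2 (MulAut A))
    (hn : ∀ a ∈ A, u * a * u⁻¹ ∈ A) : ∀ a ∈ A, u * a = a * u := by
  have hun : u ∈ normalizer (A : Set G) := by
    rw [mem_normalizer_iff]
    have hmap : A.map (MulAut.conj u).toMonoidHom = A := by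
      apply eq_of_le_of_card_ge
      · rintro _ ⟨a, ha, rfl⟩
        exact hn a ha
      · rw [card_map_of_injective (MulAut.conj u).injective]
    intro h
    constructor
    · exact hn h
    · intro h1
      rw [← hmap] at h1
      obtain ⟨a, ha, h2⟩ := h1
      have h3 : u * a * u⁻¹ = u * h * u⁻¹ := h2
      have : a = h := by
        have := mul_left_cancel (mul_right_cancel h3)
        exact this
      rw [← this]; exact ha
  let ψ : normalizer (A : Set G) →* MulAut A := MulDistribMulAction.toMulAut (normalizer (A : Set G)) A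
  have h1 : ψ ⟨u, hun⟩ = 1 := by
    obtain ⟨k, hk⟩ := hA (ψ ⟨u, hun⟩)
    have h2 : orderOf (ψ ⟨u, hun⟩) ∣ 2 ^ k := orderOf_dvd_of_pow_eq_one hk
    have h3 : orderOf (ψ ⟨u, hun⟩) ∣ orderOf u := by
      have h4 := orderOf_map_dvd ψ ⟨u, hun⟩
      rwa [Subgroup.orderOf_mk] at h4
    have h4 : (orderOf u).Coprime (2 ^ k) := Nat.Coprime.pow_right k hu.coprime_two_right
    exact orderOf_eq_one_iff.1 (Nat.eq_one_of_dvd_coprimes h4 h3 h2)
  intro a ha
  have h2 := DFunLike.congr_fun h1 (⟨a, ha⟩ : A)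
  have h3 : u * a * u⁻¹ = a := congrArg Subtype.val h2
  calc u * a = u * a * u⁻¹ * u := by group
    _ = a * u := by rw [h3]

/-- the chain `1 ≤ A ≤ F` with `A` cyclic and `|F : A| ≤ 2` -/
theorem cent_of_chain {u : G} (hu : Odd (orderOf u)) {A F : Subgroup G} (hAF : A ≤ F) (hF : IsPGroup 2 F)
    (hc : IsCyclic A) (hn : ∀ a ∈ A, u * a * u⁻¹ ∈ A) (hnF : ∀ a ∈ F, u * a * u⁻¹ ∈ F)
    (hi : ∀ a ∈ F, ∀ b ∈ F, a ∉ A → b ∉ A → a⁻¹ * b ∈ A) : ∀ a ∈ F, u * a = a * u := by
  have hp : Fact (Nat.Prime 2) := ⟨Nat.prime_two⟩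
  have hA2 : IsPGroup 2 A := hF.to_le hAF
  obtain ⟨k, hk⟩ := IsPGroup.iff_card.1 hA2
  have hcA := cent_of_aut hu (TwoFusion.CyclicAut.isPGroup_mulAut (C := A) k hk) hn
  intro f hf
  by_cases hfA : f ∈ A
  · exact hcA f hfA
  have h1 : u * f * u⁻¹ ∉ A := by
    intro h
    apply hfA
    have h2 := hcA _ h
    have h3 : u * (u * f * u⁻¹) * u⁻¹ = u * f * u⁻¹ := by rw [h2]; group
    have h4 : u * f * u⁻¹ = f := by
      have : u * (u * f * u⁻¹) * u⁻¹ = u * (f) * u⁻¹ := h3
      exact mul_left_cancel (mul_right_cancel this)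
    rw [← h4]; exact h
  have h2 : f⁻¹ * (u * f * u⁻¹) ∈ A := hi f hf _ (hnF f hf) hfA h1
  set a := f⁻¹ * (u * f * u⁻¹) with ha
  have h3 : u * f * u⁻¹ = f * a := by rw [ha]; group
  have h4 : ∀ n : ℕ, u ^ n * f * (u ^ n)⁻¹ = f * a ^ n := by
    intro n
    induction n with
    | zero => simp
    | succ n ih =>
      have h5 : u * a = a * u := hcA a h2
      have h6 : u ^ n * a * (u ^ n)⁻¹ = a := by
        have : Commute (u ^ n) a := Commute.pow_left (h5 : Commute u a) n
        rw [this.eq]; group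
      calc u ^ (n + 1) * f * (u ^ (n + 1))⁻¹ = u ^ n * (u * f * u⁻¹) * (u ^ n)⁻¹ := by rw [pow_succ]; group
        _ = u ^ n * (f * a) * (u ^ n)⁻¹ := by rw [h3]
        _ = (u ^ n * f * (u ^ n)⁻¹) * (u ^ n * a * (u ^ n)⁻¹) := by group
        _ = f * a ^ n * a := by rw [ih, h6]
        _ = f * a ^ (n + 1) := by rw [pow_succ, mul_assoc]
  have h5 : a ^ orderOf u = 1 := by
    have h6 := h4 (orderOf u)
    rw [pow_orderOf_eq_one] at h6
    have : f = f * a ^ orderOf u := by simpa using h6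
    exact (mul_eq_left.1 this.symm)
  have h6 : a = 1 := by
    obtain ⟨j, hj⟩ := hA2 ⟨a, h2⟩
    have h7 : a ^ 2 ^ j = 1 := congrArg Subtype.val hj
    have h8 : orderOf a ∣ 2 ^ j := orderOf_dvd_of_pow_eq_one h7
    have h9 : orderOf a ∣ orderOf u := orderOf_dvd_of_pow_eq_one h5
    have h10 : (orderOf u).Coprime (2 ^ j) := Nat.Coprime.pow_right j hu.coprime_two_right
    exact orderOf_eq_one_iff.1 (Nat.eq_one_of_dvd_coprimes h10 h9 h8)
  rw [h6, mul_one] at h3
  calc u * f = u * f * u⁻¹ * u := by group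
    _ = f * u := by rw [h3]

/-- the structure of `O₂(G)` -/
theorem quat_core (T F : Subgroup G) (hT2 : IsPGroup 2 T) (hF : F.Normal) (hFT : F ≤ T)
    (hFC : centralizer (F : Set G) ≤ F)
    (hT : (∃ n : ℕ, 4 ≤ n ∧ Nonempty (↥T ≃* DihedralGroup n)) ∨ Cfsg.IsQuasiDihedral ↥T)
    (hZ : (T ⊓ centralizer (T : Set G)).Normal) (hZF : T ⊓ centralizer (T : Set G) ≤ F)
    (hodd : ∃ u : G, Odd (orderOf u) ∧ ¬ ∀ a ∈ F, u * a = a * u) :
    Nonempty (↥F ≃* QuaternionGroup 2) ∧ 16 ∣ Nat.card T := by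
  have hp : Fact (Nat.Prime 2) := ⟨Nat.prime_two⟩
  have hF2 : IsPGroup 2 F := hT2.to_le hFT
  obtain ⟨u, hu, huF⟩ := hodd
  have huFn : ∀ a ∈ F, u * a * u⁻¹ ∈ F := fun a ha => hF.conj_mem a ha u
  obtain ⟨x0, hidx, hinv⟩ := OddHalf.D3.BTwo.exists_cyc (S := T) (hT.imp (fun ⟨n, h1, h2⟩ => ⟨n, by omega, h2⟩) id)
  set x : G := (x0 : G) with hx
  have hxT : x ∈ T := x0.2
  have hXT : zpowers x ≤ T := by rw [zpowers_le]; exact hxT
  have hmem : ∀ a : T, (a : G) ∈ zpowers x ↔ a ∈ zpowers x0 := by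
    intro a
    constructor
    · intro h
      obtain ⟨k, hk⟩ := mem_zpowers_iff.1 h
      exact mem_zpowers_iff.2 ⟨k, Subtype.ext (by rw [coe_zpow]; exact hk)⟩
    · intro h
      obtain ⟨k, hk⟩ := mem_zpowers_iff.1 h
      exact mem_zpowers_iff.2 ⟨k, by rw [← hk, coe_zpow]⟩
  have hmul : ∀ a ∈ T, ∀ b ∈ T, a ∉ zpowers x → b ∉ zpowers x → a⁻¹ * b ∈ zpowers x := by
    intro a ha b hb h1 h2
    have h1' : (⟨a, ha⟩ : T) ∉ zpowers x0 := fun h => h1 ((hmem _).2 h)
    have h2' : (⟨b, hb⟩ : T) ∉ zpowers x0 := fun h => h2 ((hmem _).2 h)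
    have h3 : (⟨a, ha⟩ : T)⁻¹ * ⟨b, hb⟩ ∈ zpowers x0 := by
      rw [mul_mem_iff_of_index_two hidx]
      constructor
      · intro h; exact absurd ((inv_mem_iff).1 h) h1'
      · intro h; exact absurd h h2'
    exact (hmem _).2 h3
  have hinv' : ∀ y ∈ T, y ∉ zpowers x → y * (x * x) * y⁻¹ = (x * x)⁻¹ := by
    intro y hy h
    have := hinv ⟨y, hy⟩ (fun h1 => h ((hmem _).2 h1))
    exact congrArg Subtype.val this
  -- `T` is not abelian
  have hnc : ∃ a ∈ T, ∃ b ∈ T, a * b ≠ b * a := by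
    by_contra hcon
    push Not at hcon
    have hcon' : ∀ a b : T, a * b = b * a := fun a b => Subtype.ext (hcon a a.2 b b.2)
    rcases hT with ⟨n, hn, ⟨e⟩⟩ | ⟨n, hn, hcard, y, v, hy, hv, hvy⟩
    · have : NeZero n := ⟨by omega⟩
      have h1 := hcon' (e.symm (DihedralGroup.r 1)) (e.symm (DihedralGroup.sr 0))
      rw [← map_mul, ← map_mul] at h1
      have h2 := e.symm.injective h1
      simp only [DihedralGroup.r_mul_sr, DihedralGroup.sr_mul_r, DihedralGroup.sr.injEq] at h2
      have h3 : (2 : ZMod n) = 0 := by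
        have : (1 : ZMod n) + 1 = 0 := by
          have h4 : (0 : ZMod n) - 1 + 1 = 0 + 1 + 1 := by rw [h2]
          simpa using h4.symm
        rw [← this]; norm_num
      have h5 : ((2 : ℕ) : ZMod n) = 0 := by exact_mod_cast h3
      rw [ZMod.natCast_eq_zero_iff] at h5
      have := Nat.le_of_dvd (by norm_num) h5
      omega
    · have h1 : v * y * v⁻¹ = y := by rw [hcon' v y]; group
      rw [h1] at hvy
      have h4 : (2 : ℕ) ^ (n - 1) - 1 = (2 ^ (n - 1) - 2) + 1 := by
        have : 2 ^ 2 ≤ 2 ^ (n - 1) := Nat.pow_le_pow_right (by norm_num) (by omega)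
        omega
      rw [h4, pow_succ] at hvy
      have h3 : y ^ (2 ^ (n - 1) - 2) = 1 := mul_eq_right.mp hvy.symm
      have h5 := orderOf_dvd_of_pow_eq_one h3
      rw [hy] at h5
      have h6 : 0 < 2 ^ (n - 1) - 2 := by
        have : 2 ^ 2 ≤ 2 ^ (n - 1) := Nat.pow_le_pow_right (by norm_num) (by omega)
        omega
      have h7 := Nat.le_of_dvd h6 h5
      have h8 : 2 ^ (n - 1) ≤ 2 ^ n := Nat.pow_le_pow_right (by norm_num) (by omega)
      omega
  have hncx : ∀ v ∈ T, v ∉ zpowers x → v * x ≠ x * v := by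
    intro v hv hvx hc
    have key : ∀ a ∈ T, (∃ k : ℤ, a = x ^ k) ∨ ∃ k : ℤ, a = v * x ^ k := by
      intro a ha
      by_cases h : a ∈ zpowers x
      · obtain ⟨k, hk⟩ := mem_zpowers_iff.1 h
        exact Or.inl ⟨k, hk.symm⟩
      · obtain ⟨k, hk⟩ := mem_zpowers_iff.1 (hmul v hv a ha hvx h)
        exact Or.inr ⟨k, by rw [hk]; group⟩
    have hvxc : ∀ k : ℤ, v * x ^ k = x ^ k * v := fun k => (Commute.zpow_right (hc : Commute v x) k).eq
    obtain ⟨a, ha, b, hb, hab⟩ := hnc
    apply hab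
    have hxx : ∀ k l : ℤ, x ^ k * x ^ l = x ^ l * x ^ k := fun k l => (Commute.zpow_zpow_self x k l).eq
    rcases key a ha with ⟨k, rfl⟩ | ⟨k, rfl⟩ <;> rcases key b hb with ⟨l, rfl⟩ | ⟨l, rfl⟩
    · exact hxx k l
    · rw [← mul_assoc, ← hvxc, mul_assoc, mul_assoc, hxx]
    · rw [mul_assoc, hxx, ← mul_assoc, hvxc, mul_assoc]
    · calc v * x ^ k * (v * x ^ l) = v * (x ^ k * v) * x ^ l := by simp only [mul_assoc]
        _ = v * (v * x ^ k) * x ^ l := by rw [hvxc]
        _ = v * v * (x ^ k * x ^ l) := by simp only [mul_assoc]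
        _ = v * v * (x ^ l * x ^ k) := by rw [hxx]
        _ = v * (v * x ^ l) * x ^ k := by simp only [mul_assoc]
        _ = v * (x ^ l * v) * x ^ k := by rw [hvxc]
        _ = v * x ^ l * (v * x ^ k) := by simp only [mul_assoc]
  obtain ⟨jx, hjx⟩ := hT2 x0
  have hx2 : x ^ 2 ^ jx = 1 := congrArg Subtype.val hjx
  have hinvk : ∀ v ∈ T, v ∉ zpowers x → ∀ k : ℤ, v * x ^ (2 * k) * v⁻¹ = x ^ (-(2 * k)) := by
    intro v hv hvx k
    have h1 := hinv' v hv hvx
    have h2 : v * (x * x) ^ k * v⁻¹ = ((x * x)⁻¹) ^ k := by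
      rw [← h1, conj_zpow]
    have h3 : (x * x) ^ k = x ^ (2 * k) := by
      rw [two_mul, zpow_add, (Commute.refl x).mul_zpow]
    rw [h3] at h2
    rw [h2, inv_zpow, h3, zpow_neg]
  -- elements outside `⟨x⟩` have order at most 4
  have hv4 : ∀ v ∈ T, v ∉ zpowers x → v ^ 4 = 1 := by
    intro v hv hvx
    have h1 : v * v ∈ zpowers x := by
      have := hmul v⁻¹ (T.inv_mem hv) v hv (fun h => hvx ((inv_mem_iff).1 h)) hvx
      rwa [inv_inv] at this
    obtain ⟨k, hk⟩ := mem_zpowers_iff.1 h1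
    have hcomm : v * x ^ k * v⁻¹ = x ^ k := by rw [hk]; group
    rcases Int.even_or_odd' k with ⟨l, hl | hl⟩
    · have h2 := hinvk v hv hvx l
      rw [← hl, hcomm] at h2
      have h3 : x ^ k * x ^ k = 1 := by
        nth_rewrite 2 [h2]
        rw [← zpow_add]; simp
      calc v ^ 4 = (v * v) * (v * v) := by
            rw [show (4 : ℕ) = 2 + 2 by norm_num, pow_add, pow_two]
        _ = 1 := by rw [← hk, h3]
    · exfalso
      apply hncx v hv hvx
      have h2 := hinvk v hv hvx k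
      have h3 : v * x ^ (2 * k) * v⁻¹ = x ^ (2 * k) := by
        have : x ^ (2 * k) = x ^ k * x ^ k := by rw [two_mul, zpow_add]
        rw [this]
        calc v * (x ^ k * x ^ k) * v⁻¹ = (v * x ^ k * v⁻¹) * (v * x ^ k * v⁻¹) := by group
          _ = _ := by rw [hcomm]
      rw [h3] at h2
      have h4 : x ^ (4 * k) = 1 := by
        have : x ^ (4 * k) = x ^ (2 * k) * x ^ (2 * k) := by rw [← zpow_add]; congr 1; ring
        rw [this]
        nth_rewrite 2 [h2]
        rw [← zpow_add]; simp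
      -- `x ^ 4 = 1`
      have h5 : (orderOf x : ℤ) ∣ 4 * k := orderOf_dvd_iff_zpow_eq_one.2 h4
      have h6 : (orderOf x : ℤ) ∣ 4 := by
        have h7 : IsCoprime ((orderOf x : ℤ)) k := by
          have h8 : (orderOf x) ∣ 2 ^ jx := orderOf_dvd_of_pow_eq_one hx2
          have h9 : IsCoprime ((2 : ℤ) ^ jx) k := by
            apply IsCoprime.pow_left
            rw [hl]
            exact ⟨-l, 1, by ring⟩
          exact h9.of_isCoprime_of_dvd_left (by exact_mod_cast h8)
        exact h7.dvd_of_dvd_mul_right h5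
      have h7 : x ^ (4 : ℤ) = 1 := orderOf_dvd_iff_zpow_eq_one.1 h6
      -- `(x ^ k) ^ k = x`
      have h8 : (x ^ k) ^ k = x := by
        rw [← zpow_mul]
        have h9 : k * k = 4 * (l * l + l) + 1 := by rw [hl]; ring
        rw [h9, zpow_add, zpow_mul, h7, one_zpow, one_mul, zpow_one]
      have h9 : v * x * v⁻¹ = x := by
        conv_lhs => rw [← h8]
        rw [← conj_zpow, hcomm, h8]
      calc v * x = v * x * v⁻¹ * v := by group
        _ = x * v := by rw [h9]
  -- the cyclic subgroup `A0 = F ⊓ ⟨x⟩ = ⟨w⟩`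
  set A0 := F ⊓ zpowers x with hA0
  have hA0c : IsCyclic A0 := by
    have h1 : IsCyclic ((F ⊓ zpowers x).subgroupOf (zpowers x)) := inferInstance
    exact isCyclic_of_surjective _ (subgroupOfEquivOfLe (inf_le_right : F ⊓ zpowers x ≤ zpowers x)).surjective
  obtain ⟨w0, hw0⟩ := hA0c.exists_generator
  set w : G := (w0 : G) with hw
  have hwA : w ∈ A0 := w0.2
  have hgenw : ∀ a ∈ A0, ∃ k : ℤ, a = w ^ k := by
    intro a ha
    obtain ⟨k, hk⟩ := mem_zpowers_iff.1 (hw0 ⟨a, ha⟩)
    exact ⟨k, (congrArg Subtype.val hk).symm⟩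
  have hiA0 : ∀ a ∈ F, ∀ b ∈ F, a ∉ A0 → b ∉ A0 → a⁻¹ * b ∈ A0 := fun a ha b hb h1 h2 =>
    ⟨F.mul_mem (F.inv_mem ha) hb, hmul a (hFT ha) b (hFT hb) (fun h => h1 ⟨ha, h⟩) fun h => h2 ⟨hb, h⟩⟩
  obtain ⟨g, hg⟩ : ∃ g : G, g * w * g⁻¹ ∉ zpowers x := by
    by_contra hcon
    push Not at hcon
    apply huF
    refine cent_of_chain hu inf_le_left hF2 hA0c ?_ huFn hiA0
    intro a ha
    obtain ⟨k, rfl⟩ := hgenw a ha
    rw [← conj_zpow]
    exact A0.zpow_mem ⟨hF.conj_mem _ hwA.1 _, hcon u⟩ _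
  set v := g * w * g⁻¹ with hv
  have hvF : v ∈ F := hF.conj_mem _ hwA.1 _
  have hw4 : w ^ 4 = 1 := by
    have h1 := hv4 v (hFT hvF) hg
    rw [hv, conj_pow] at h1
    have : g * w ^ 4 * g⁻¹ = g * 1 * g⁻¹ := by rw [h1]; group
    exact mul_left_cancel (mul_right_cancel this)
  have hFn : F ≠ A0 := fun h => hg (by
    have : v ∈ A0 := h ▸ hvF
    exact this.2)
  have hcardA0 : Nat.card A0 = orderOf w := by
    have h1 : Nat.card A0 = Nat.card (zpowers w) := by
      have : A0 = zpowers w := by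
        apply le_antisymm
        · intro a ha
          obtain ⟨k, rfl⟩ := hgenw a ha
          exact zpow_mem (mem_zpowers w) k
        · rw [zpowers_le]; exact hwA
      rw [this]
    rw [h1, Nat.card_zpowers]
  have hidxF : (A0.subgroupOf F).index = 2 := by
    rw [index_eq_two_iff']
    refine ⟨⟨v, hvF⟩⁻¹, fun b => ?_⟩
    have e1 : (((⟨v, hvF⟩ : F)⁻¹ * b : F) ∈ A0.subgroupOf F) ↔ v⁻¹ * (b : G) ∈ A0 := Iff.rfl
    have e2 : (b ∈ A0.subgroupOf F) ↔ (b : G) ∈ A0 := Iff.rfl
    rw [e1, e2]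
    have hvA : v ∉ A0 := fun h => hg h.2
    by_cases hb : (b : G) ∈ A0
    · right
      refine ⟨hb, fun h => hvA ?_⟩
      have h1 := A0.mul_mem hb (A0.inv_mem h)
      have h2 : (b : G) * (v⁻¹ * b)⁻¹ = v := by group
      rwa [h2] at h1
    · left
      exact ⟨hiA0 v hvF b b.2 hvA hb, hb⟩
  have hcardF : Nat.card F = orderOf w * 2 := by
    have h1 := card_mul_index (A0.subgroupOf F)
    rw [hidxF, Nat.card_congr (subgroupOfEquivOfLe (inf_le_left : A0 ≤ F)).toEquiv, hcardA0] at h1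
    exact h1.symm
  have hw24 : orderOf w ∣ 4 := orderOf_dvd_of_pow_eq_one hw4
  set ZT := T ⊓ centralizer (T : Set G) with hZT
  have hwo : orderOf w = 4 := by
    by_contra hcon
    have h2 : orderOf w ≤ 2 := by
      have h3 := Nat.le_of_dvd (by norm_num) hw24
      interval_cases h4 : orderOf w
      · norm_num
      · norm_num
      · norm_num
      · norm_num at hw24
      · exact absurd rfl hcon
    have hF4 : Nat.card F ≤ 4 := by omega
    -- the centre of `T`
    have hZne : ZT ≠ ⊥ := by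
      have hnt : Nontrivial T := by
        obtain ⟨a, ha, b, hb, hab⟩ := hnc
        refine ⟨⟨a, ha⟩, ⟨b, hb⟩, fun h => hab ?_⟩
        have : a = b := congrArg Subtype.val h
        rw [this]
      have h5 := hT2.center_nontrivial
      obtain ⟨z, hz⟩ := exists_ne (1 : center T)
      intro h6
      apply hz
      have h7 : ((z : T) : G) ∈ ZT := ⟨(z : T).2, mem_centralizer_iff.2 fun t ht =>
        congrArg Subtype.val (mem_center_iff.1 z.2 ⟨t, ht⟩)⟩
      rw [h6, mem_bot] at h7
      exact Subtype.ext (Subtype.ext h7)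
    have hZneF : ZT ≠ F := by
      intro h6
      have h7 : T ≤ centralizer (F : Set G) := by
        intro t ht
        rw [mem_centralizer_iff]
        intro f hf
        rw [← h6] at hf
        exact (mem_centralizer_iff.1 hf.2 t ht).symm
      obtain ⟨a, ha, b, hb, hab⟩ := hnc
      have h8 : b ∈ ZT := h6 ▸ (h7.trans hFC hb)
      exact hab (mem_centralizer_iff.1 h8.2 a ha)
    have hcZ1 : 1 < Nat.card ZT := by
      rw [← not_le]
      intro h
      exact hZne (Subgroup.card_eq_one.1 (le_antisymm h Nat.card_pos))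
    have hcZ2 : Nat.card ZT < Nat.card F := by
      rw [← not_le]
      intro h
      exact hZneF (eq_of_le_of_card_ge hZF h)
    obtain ⟨i, hi⟩ : ∃ i, Nat.card F = Nat.card ZT * i := card_dvd_of_le hZF
    have hi2 : i = 2 := by
      have : i ≠ 0 := by rintro rfl; rw [mul_zero] at hi; exact absurd hi Nat.card_pos.ne'
      have : i ≠ 1 := by rintro rfl; rw [mul_one] at hi; omega
      by_contra h3
      have h4 : 3 ≤ i := by omega
      have h5 : 2 * 3 ≤ Nat.card ZT * i := Nat.mul_le_mul hcZ1 h4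
      omega
    have hcZ : Nat.card ZT = 2 := by rw [hi2] at hi; omega
    have hZidx : (ZT.subgroupOf F).index = 2 := by
      have h1 := card_mul_index (ZT.subgroupOf F)
      rw [Nat.card_congr (subgroupOfEquivOfLe hZF).toEquiv, hcZ] at h1
      rw [hcZ, hi2] at hi
      omega
    apply huF
    refine cent_of_chain hu hZF hF2 (isCyclic_of_prime_card (p := 2) hcZ) (fun a ha => hZ.conj_mem a ha u) huFn ?_
    intro a ha b hb h1 h2
    have h3 : (⟨a, ha⟩ : F)⁻¹ * ⟨b, hb⟩ ∈ ZT.subgroupOf F := by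
      rw [mul_mem_iff_of_index_two hZidx]
      constructor
      · intro h; exact absurd ((inv_mem_iff).1 h) h1
      · intro h; exact absurd h h2
    exact h3
  rw [hwo] at hcardF
  have hF8 : Nat.card F = 8 := by omega
  -- `T ≠ F`
  have hTF : T ≠ F := by
    intro h
    apply huF
    have h1 : IsPGroup 2 (MulAut T) := S3116.result hT2 hT
    intro a ha
    exact cent_of_aut hu h1 (fun a ha => by rw [h] at ha ⊢; exact huFn a ha) a (hFT ha)
  have h16 : 16 ∣ Nat.card T := by
    obtain ⟨k, hk⟩ := IsPGroup.iff_card.1 hT2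
    have h1 : Nat.card F < Nat.card T := by
      rw [← not_le]
      intro h
      exact hTF (eq_of_le_of_card_ge hFT h).symm
    rw [hF8, hk] at h1
    have h2 : 4 ≤ k := by
      by_contra h3
      have : 2 ^ k ≤ 2 ^ 3 := Nat.pow_le_pow_right (by norm_num) (by omega)
      omega
    rw [hk]
    exact pow_dvd_pow 2 h2
  refine ⟨?_, h16⟩
  -- `v` inverts `w`
  have hox : 8 ∣ orderOf x := by
    have h1 := card_mul_index (zpowers x0)
    rw [hidx, Nat.card_zpowers] at h1
    have h2 : orderOf x = orderOf x0 := Subgroup.orderOf_coe x0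
    rw [h2]
    omega
  obtain ⟨k, hk⟩ := mem_zpowers_iff.1 hwA.2
  have hkev : Even k := by
    by_contra hodd
    rw [Int.not_even_iff_odd] at hodd
    obtain ⟨l, hl⟩ := hodd
    have h1 : x ^ (4 * k) = 1 := by
      rw [mul_comm, zpow_mul, hk]
      exact_mod_cast hw4
    have h2 : (orderOf x : ℤ) ∣ 4 * k := orderOf_dvd_iff_zpow_eq_one.2 h1
    have h3 : (8 : ℤ) ∣ 4 * k := (by exact_mod_cast hox : (8 : ℤ) ∣ (orderOf x : ℤ)).trans h2
    omega
  have hvw : v * w * v⁻¹ = w⁻¹ := by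
    obtain ⟨l, hl⟩ := hkev
    have h1 := hinvk v (hFT hvF) hg l
    rw [show 2 * l = k by rw [hl]; ring] at h1
    rw [hk, zpow_neg, hk] at h1
    exact h1
  have hna : ¬ IsMulCommutative F := by
    intro hc
    have h1 : (⟨v, hvF⟩ : F) * ⟨w, hwA.1⟩ = ⟨w, hwA.1⟩ * ⟨v, hvF⟩ := hc.is_comm.comm _ _
    have h2 : v * w = w * v := congrArg Subtype.val h1
    have h3 : v * w * v⁻¹ = w := by rw [h2]; group
    rw [h3] at hvw
    have h4 : w ^ 2 = 1 := by
      rw [pow_two]
      nth_rewrite 2 [hvw]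
      exact mul_inv_cancel w
    have h5 := orderOf_dvd_of_pow_eq_one h4
    rw [hwo] at h5
    norm_num at h5
  rcases SmallSimple.OrderEight.dihedral_or_quaternion_of_card_eight hF8 hna with h | h
  · exact absurd (cent_of_aut hu (S3116.result hF2 (Or.inl ⟨4, le_rfl, h⟩)) huFn) huF
  · exact h

/-- **The theorem.** -/
theorem main [Group.IsSolvable G] (hO : Cfsg.oddCore G = ⊥) (T : Sylow 2 G)
    (hT : (∃ n : ℕ, 4 ≤ n ∧ Nonempty (↥(T : Subgroup G) ≃* DihedralGroup n)) ∨
      Cfsg.IsQuasiDihedral ↥(T : Subgroup G))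
    (hne : (T : Subgroup G) ≠ ⊤)
    (hZ : ((T : Subgroup G) ⊓ centralizer ((T : Subgroup G) : Set G)).Normal) :
    ∃ U : Subgroup G, U.Normal ∧ Nonempty (↥U ≃* Matrix.SpecialLinearGroup (Fin 2) (ZMod 3)) := by
  have hp : Fact (Nat.Prime 2) := ⟨Nat.prime_two⟩
  set F := Cfsg.pCore 2 G with hFdef
  have hFC : centralizer (F : Set G) ≤ F := Lib.HallHigman.centralizer_pCore_le_of_solvable 2 hO
  have hFn : F.Normal := Lib.Cores.pCore_normal 2
  have hF2 : IsPGroup 2 F := Lib.Cores.pCore_isPGroup 2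
  have hle : ∀ N : Subgroup G, N.Normal → IsPGroup 2 N → N ≤ (T : Subgroup G) := by
    intro N hN h2
    obtain ⟨P, hP⟩ := h2.exists_le_sylow
    obtain ⟨g, hg⟩ := MulAction.exists_smul_eq G P T
    intro y hy
    have h3 : g⁻¹ * y * g ∈ P := hP (by
      have := hN.conj_mem y hy g⁻¹
      rwa [inv_inv] at this)
    have h4 : y ∈ (g • P : Sylow 2 G) := by
      refine ⟨g⁻¹ * y * g, h3, ?_⟩
      show g * (g⁻¹ * y * g) * g⁻¹ = y
      group
    rwa [hg] at h4
  have hFT := hle F hFn hF2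
  have hZF : (T : Subgroup G) ⊓ centralizer ((T : Subgroup G) : Set G) ≤ F :=
    Lib.Cores.le_pCore hZ (T.isPGroup'.to_le inf_le_left)
  -- an element of odd order acting nontrivially
  have hcent : ∀ u : G, Odd (orderOf u) → (∀ a ∈ F, u * a = a * u) → u = 1 := by
    intro u hu h
    have h1 : u ∈ F := hFC (mem_centralizer_iff.2 fun a ha => (h a ha).symm)
    obtain ⟨j, hj⟩ := hF2 ⟨u, h1⟩
    have h2 : u ^ 2 ^ j = 1 := congrArg Subtype.val hj
    have h3 : (orderOf u).Coprime (2 ^ j) := Nat.Coprime.pow_right j hu.coprime_two_right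
    exact orderOf_eq_one_iff.1 (Nat.eq_one_of_dvd_coprimes h3 dvd_rfl (orderOf_dvd_of_pow_eq_one h2))
  have hodd : ∃ u : G, Odd (orderOf u) ∧ ¬ ∀ a ∈ F, u * a = a * u := by
    have h1 : (T : Subgroup G).index ≠ 1 := fun h => hne (index_eq_one.1 h)
    obtain ⟨q, hq, hqd⟩ := Nat.exists_prime_and_dvd h1
    have hq2 : q ≠ 2 := by
      rintro rfl
      exact T.not_dvd_index hqd
    have : Fact q.Prime := ⟨hq⟩
    obtain ⟨u, hu⟩ := exists_prime_orderOf_dvd_card' q (hqd.trans (index_dvd_card _))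
    refine ⟨u, by rw [hu]; exact hq.odd_of_ne_two hq2, fun h => ?_⟩
    have h2 := hcent u (by rw [hu]; exact hq.odd_of_ne_two hq2) h
    rw [h2, orderOf_one] at hu
    exact hq.one_lt.ne hu
  obtain ⟨⟨eF⟩, h16⟩ := quat_core (T : Subgroup G) F T.isPGroup' hFn hFT hFC hT hZ hZF hodd
  obtain ⟨u, hu, huF⟩ := hodd
  have hF8 : Nat.card F = 8 := by
    rw [Nat.card_congr eF.toEquiv, Nat.card_eq_fintype_card, QuaternionGroup.card]
  -- the order of `G` divides 48
  have hcC : Nat.card (centralizer (F : Set G)) ∣ 2 := by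
    have h1 : centralizer (F : Set G) = (center F).map F.subtype := by
      ext y
      constructor
      · intro hy
        refine ⟨⟨y, hFC hy⟩, mem_center_iff.2 fun a => Subtype.ext ?_, rfl⟩
        exact mem_centralizer_iff.1 hy a a.2
      · rintro ⟨y, hy, rfl⟩
        refine mem_centralizer_iff.2 fun a ha => ?_
        exact congrArg Subtype.val (mem_center_iff.1 hy ⟨a, ha⟩)
    rw [h1, card_map_of_injective (subtype_injective _)]
    have h2 : Nat.card (center F) = Nat.card (center (QuaternionGroup 2)) :=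
      Nat.card_congr (Subgroup.centerCongr eF).toEquiv
    rw [h2]
    have h3 : Nat.card (center (QuaternionGroup 2)) = 2 := by
      rw [Nat.card_eq_fintype_card]
      decide
    rw [h3]
  have h48 : Nat.card G ∣ 48 := by
    let φ : G →* MulAut F := MulAut.conjNormal
    have hker : φ.ker = centralizer (F : Set G) := by
      ext y
      rw [MonoidHom.mem_ker, mem_centralizer_iff]
      constructor
      · intro h a ha
        have h1 := DFunLike.congr_fun h (⟨a, ha⟩ : F)
        have h2 : y * a * y⁻¹ = a := congrArg Subtype.val h1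
        calc a * y = y * a * y⁻¹ * y := by rw [h2]
          _ = y * a := by group
      · intro h
        apply MulEquiv.ext
        intro a
        apply Subtype.ext
        show y * (a : G) * y⁻¹ = a
        rw [← h a a.2]; group
    have h1 : Nat.card φ.ker * Nat.card φ.range = Nat.card G := by
      rw [← Subgroup.index_ker]
      exact card_mul_index _
    rw [← h1, hker]
    have h2 : Nat.card φ.range ∣ 24 := by
      have h3 : Nat.card (MulAut F) = 24 := by
        rw [← PermutationGroups.AutQuaternion.card_mulAut]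
        exact Nat.card_congr (MulAut.congr eF).toEquiv
      rw [← h3]
      exact card_subgroup_dvd_card _
    exact (Nat.mul_dvd_mul hcC h2)
  have h16G : 16 ∣ Nat.card G := h16.trans (card_subgroup_dvd_card _)
  have hou : orderOf u = 3 := by
    have h1 : orderOf u ∣ 48 := (orderOf_dvd_natCard u).trans h48
    have h2 : orderOf u ∣ 3 := by
      have h3 : (orderOf u).Coprime 16 := by
        have : (16 : ℕ) = 2 ^ 4 := by norm_num
        rw [this]
        exact Nat.Coprime.pow_right 4 hu.coprime_two_right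
      exact h3.dvd_of_dvd_mul_left (by simpa using h1)
    rcases (Nat.dvd_prime Nat.prime_three).1 h2 with h | h
    · exfalso
      apply huF
      rw [orderOf_eq_one_iff] at h
      subst h
      intro a _
      rw [one_mul, mul_one]
    · exact h
  have hG48 : Nat.card G = 48 := by
    have h3 : 3 ∣ Nat.card G := hou ▸ orderOf_dvd_natCard u
    have h4 : 48 ∣ Nat.card G := by
      have : (16 : ℕ).Coprime 3 := by norm_num
      exact (Nat.Coprime.mul_dvd_of_dvd_of_dvd this h16G h3)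
    exact Nat.dvd_antisymm h48 h4
  have huFnot : u ∉ F := by
    intro h
    obtain ⟨j, hj⟩ := hF2 ⟨u, h⟩
    have h2 : u ^ 2 ^ j = 1 := congrArg Subtype.val hj
    have h3 := orderOf_dvd_of_pow_eq_one h2
    rw [hou] at h3
    have := (Nat.Prime.dvd_of_dvd_pow Nat.prime_three h3)
    norm_num at this
  set U := F ⊔ zpowers u with hU
  have hFU : F ≤ U := le_sup_left
  have huU : u ∈ U := (le_sup_right : zpowers u ≤ U) (mem_zpowers u)
  have hcardU : Nat.card U = 24 := by
    have h1 : F.relIndex U ∣ 3 := by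
      rw [hU, relIndex_sup_left]
      rw [← hou, ← Nat.card_zpowers]
      exact (index_dvd_card _)
    have h2 : Nat.card F * F.relIndex U = Nat.card U := by
      have h3 := card_mul_index (F.subgroupOf U)
      rwa [Nat.card_congr (subgroupOfEquivOfLe hFU).toEquiv] at h3
    rw [hF8] at h2
    rcases (Nat.dvd_prime Nat.prime_three).1 h1 with h | h
    · exfalso
      rw [relIndex_eq_one] at h
      exact huFnot (h huU)
    · rw [h] at h2; omega
  have hUidx : U.index = 2 := by
    have h1 := card_mul_index U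
    rw [hcardU, hG48] at h1
    omega
  refine ⟨U, normal_of_index_eq_two hUidx, ?_⟩
  have : (F.subgroupOf U).Normal := hFn.subgroupOf U
  refine SylowG2Aux.SL23Card.nonempty_mulEquiv hcardU (F.subgroupOf U)
    ⟨(subgroupOfEquivOfLe hFU).trans eF⟩ ⟨u, huU⟩ (by rw [Subgroup.orderOf_mk]; exact hu) ?_
  intro h
  apply huF
  intro a ha
  have h1 := mem_centralizer_iff.1 h ⟨a, hFU ha⟩ (by exact ha)
  exact (congrArg Subtype.val h1).symm

end Cfsg.Agent.H235.SdSolv
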